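import Cfsg.Agent.HeightExt.Det

/-!
# A height zero character is nonzero modulo `p` at a defect class

Given that the block idempotent vanishes at `p`-singular elements, a height zero character of a
block takes at a defect class a value which is not `p` times an algebraic integer.
-/

namespace CfsgLib.HeightExt

open Cfsg Finset
open scoped ComplexConjugate

variable {G : Type*} [Group G]

/-- The average of a character over a coset `g D`, `g` centralized by the `p`-group `D`, is an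
algebraic integer. -/
theorem isIntegral_average [Finite G] {n : ℕ} (ρ : Representation ℂ G (Fin n → ℂ)) (D : Subgroup G)
    [Fintype ↥D] (g : G) (hg : ∀ d ∈ D, d * g = g * d) :
    IsIntegral ℤ ((Fintype.card ↥D : ℂ)⁻¹ * ∑ d : ↥D, ρ.character (g * d)) := by
  classical
  have hD0 : (Fintype.card ↥D : ℂ) ≠ 0 := Nat.cast_ne_zero.mpr Fintype.card_ne_zero
  have hm : 0 < orderOf g := orderOf_pos g
  have hω := Complex.isPrimitiveRoot_exp (orderOf g) hm.ne'
  have hint : IsIntegral ℤ (Complex.exp (2 * Real.pi * Complex.I / (orderOf g : ℂ))) :=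
    ⟨Polynomial.X ^ orderOf g - Polynomial.C 1, Polynomial.monic_X_pow_sub_C 1 hm.ne', by
      simp [hω.pow_eq_one]⟩
  set ω := Complex.exp (2 * Real.pi * Complex.I / (orderOf g : ℂ))
  set T : Module.End ℂ (Fin n → ℂ) := ρ g with hTdef
  have hT : T ^ orderOf g = 1 := by rw [hTdef, ← map_pow, pow_orderOf_eq_one, map_one]
  obtain ⟨hidem, hdec⟩ := exists_projections hm T hT ω hω
  set Q : Module.End ℂ (Fin n → ℂ) := (Fintype.card ↥D : ℂ)⁻¹ • ∑ d : ↥D, ρ (d : G) with hQ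
  have hQd : ∀ d : ↥D, ρ (d : G) * Q = Q := by
    intro d
    rw [hQ, mul_smul_comm, Finset.mul_sum]
    congr 1
    exact Fintype.sum_equiv (Equiv.mulLeft d) _ _ (fun e => by simp [map_mul])
  have hQQ : Q * Q = Q := by
    conv_lhs => arg 1; rw [hQ]
    simp only [smul_mul_assoc, Finset.sum_mul, hQd, sum_const, card_univ,
      ← Nat.cast_smul_eq_nsmul ℂ, smul_smul, inv_mul_cancel₀ hD0, one_smul]
  have hTQ : Commute T Q := by
    refine (Commute.sum_right _ _ _ (fun d _ => ?_)).smul_right _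
    exact (show Commute g (d : G) from (hg d d.2).symm).map ρ
  have htr : (Fintype.card ↥D : ℂ)⁻¹ * ∑ d : ↥D, ρ.character (g * d) = LinearMap.trace ℂ _ (T * Q) := by
    simp only [hQ, mul_smul_comm, map_smul, Finset.mul_sum, map_sum, smul_eq_mul]
    refine sum_congr rfl (fun d _ => ?_)
    congr 1
    simp [Representation.character, T, map_mul]
  rw [htr, hdec, Finset.sum_mul, map_sum]
  refine IsIntegral.sum _ (fun j _ => ?_)
  rw [smul_mul_assoc, map_smul, smul_eq_mul]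
  refine (hint.pow j).mul ?_
  set P := (orderOf g : ℂ)⁻¹ • ∑ i ∈ range (orderOf g), (ω ^ (j * i))⁻¹ • T ^ i with hP
  have hPQ : Commute P Q :=
    (Commute.sum_left _ _ _ (fun i _ => (hTQ.pow_left i).smul_left _)).smul_left _
  have hE : P * Q * (P * Q) = P * Q := by
    rw [mul_assoc, ← mul_assoc Q, ← hPQ.eq, mul_assoc P Q, hQQ, ← mul_assoc, hidem j]
  have hproj : LinearMap.IsProj (LinearMap.range (P * Q)) (P * Q) :=
    ⟨fun x => LinearMap.mem_range_self _ x, by
      rintro _ ⟨x, rfl⟩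
      exact congrArg (fun f : Module.End ℂ (Fin n → ℂ) => f x) hE⟩
  rw [hproj.trace]
  exact isIntegral_algebraMap (R := ℤ) (A := ℂ) (x := (Module.finrank ℂ (LinearMap.range (P * Q)) : ℤ))

variable [Finite G] [Finite (IrrCharacter G)] {p : ℕ} [Fact p.Prime] {M : Ideal AlgInt}

/-- The degree of a character given by a representation. -/
theorem charDegree_eq {n : ℕ} (ρ : Representation ℂ G (Fin n → ℂ)) :
    charDegree ρ.character = n ∧ ρ.character 1 = (n : ℂ) := by
  have h : ρ.character 1 = (n : ℂ) := by rw [Representation.char_one, Module.finrank_fin_fun]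
  exact ⟨by rw [charDegree, h, Complex.natCast_re, Nat.floor_natCast], h⟩

/-- A natural number prime to `p` is outside a `p`-modular ideal. -/
theorem natCast_notMem (hM : IsPModular p M) {k : ℕ} (hk : ¬ p ∣ k) : (k : AlgInt) ∉ M := by
  intro hkM
  have hco : Nat.Coprime p k := (hM.1.coprime_iff_not_dvd).mpr hk
  have hbez := Nat.gcd_eq_gcd_ab p k
  rw [hco.gcd_eq_one] at hbez
  have h1 : (1 : AlgInt) = (p : AlgInt) * (Nat.gcdA p k : AlgInt) + (k : AlgInt) * (Nat.gcdB p k : AlgInt) := by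
    exact_mod_cast congrArg (fun z : ℤ => (z : AlgInt)) hbez
  exact hM.2.1.ne_top ((Ideal.eq_top_iff_one M).mpr
    (h1 ▸ M.add_mem (M.mul_mem_right _ hM.2.2) (M.mul_mem_right _ hkM)))

/-- At a defect class a height zero character is not divisible by `p`. -/
theorem not_dvd_value_of_height_zero (hM : IsPModular p M) (B : Set (IrrCharacter G))
    (hvan : ∀ y : G, p ∣ orderOf y → ∑ᶠ ψ ∈ B, (ψ : G → ℂ) 1 * conj ((ψ : G → ℂ) y) = 0)
    (g : G) (hg : IsDefectClass M B g) (S : Sylow p (Subgroup.centralizer ({g} : Set G)))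
    (χ : IrrCharacter G) (hχ : χ ∈ B) (h0 : blockHeight p B (χ : G → ℂ) = 0) :
    ¬ ∃ a : AlgInt, (p : ℂ) * (a : ℂ) = (χ : G → ℂ) g := by
  classical
  have hp : p.Prime := hM.1
  obtain ⟨nχ, ρχ, -, hρχ⟩ := χ.2
  set C := Subgroup.centralizer ({g} : Set G) with hC
  set D : Subgroup G := (S : Subgroup C).map C.subtype with hDdef
  have _ : Fintype ↥D := Fintype.ofFinite _
  have hcomm : ∀ d ∈ D, d * g = g * d := by
    rintro _ ⟨d, _, rfl⟩
    exact Subgroup.mem_centralizer_singleton_iff.mp d.2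
  have hDcard : Nat.card ↥D = p ^ (Nat.card ↥C).factorization p := by
    rw [hDdef, Subgroup.card_map_of_injective C.subtype_injective, S.card_eq_multiplicity]
  -- `g` is `p`-regular
  have hreg : ¬ p ∣ orderOf g := by
    intro hdvd
    apply hg.2.1
    refine ⟨0, 1, M.zero_mem, fun h => hM.2.1.ne_top ((Ideal.eq_top_iff_one M).mpr h), ?_⟩
    simp [blockCoeff, hvan g hdvd]
  have hsing : ∀ d : ↥D, d ≠ 1 → p ∣ orderOf (g * (d : G)) := by
    intro d hd
    have hDp : IsPGroup p ↥D := S.2.map C.subtype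
    obtain ⟨k, hk⟩ := hDp d
    obtain ⟨i, -, hi⟩ := (Nat.dvd_prime_pow hp).mp (orderOf_dvd_of_pow_eq_one hk)
    have hi0 : i ≠ 0 := by
      rintro rfl
      exact hd (orderOf_eq_one_iff.mp (by simpa using hi))
    rw [(show Commute g (d : G) from (hcomm d d.2).symm).orderOf_mul_eq_mul_orderOf_of_coprime
      (by rw [Subgroup.orderOf_coe, hi]
          exact Nat.Coprime.pow_right i (Nat.coprime_comm.mp (hp.coprime_iff_not_dvd.mpr hreg))),
      Subgroup.orderOf_coe, hi]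
    exact Dvd.dvd.mul_left (dvd_pow_self p hi0) _
  -- the least exponent of `p` in the degrees
  set b := (charDegree (χ : G → ℂ)).factorization p with hb
  have hmin : ∀ ψ ∈ B, b ≤ (charDegree (ψ : G → ℂ)).factorization p := by
    intro ψ hψ
    have h1 : sInf ((fun ψ : IrrCharacter G => (charDegree (ψ : G → ℂ)).factorization p) '' B) ≤
        (charDegree (ψ : G → ℂ)).factorization p := Nat.sInf_le ⟨ψ, hψ, rfl⟩
    have h2 : b ≤ sInf ((fun ψ : IrrCharacter G => (charDegree (ψ : G → ℂ)).factorization p) '' B) :=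
      Nat.sub_eq_zero_iff_le.mp h0
    omega
  set F : G → ℂ := fun y => ∑ᶠ ψ ∈ B, (ψ : G → ℂ) 1 * conj ((ψ : G → ℂ) y)
  have hFsum : ∀ y, F y = ∑ ψ ∈ B.toFinite.toFinset, (ψ : G → ℂ) 1 * conj ((ψ : G → ℂ) y) := fun y =>
    finsum_mem_eq_finite_toFinset_sum _ B.toFinite
  have hone : ∑ d : ↥D, F (g * d) = F g := by
    rw [Finset.sum_eq_single (1 : ↥D)]
    · simp
    · exact fun d _ hd => hvan _ (hsing d hd)
    · simp
  have hkey : ∃ c : AlgInt, F g = (Fintype.card ↥D : ℂ) * (p : ℂ) ^ b * (c : ℂ) := by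
    have hterm : ∀ ψ ∈ B.toFinite.toFinset, ∃ c : AlgInt,
        ∑ d : ↥D, (ψ : G → ℂ) 1 * conj ((ψ : G → ℂ) (g * d)) = (Fintype.card ↥D : ℂ) * (p : ℂ) ^ b * (c : ℂ) := by
      intro ψ hψ
      obtain ⟨n, ρ, -, hρ⟩ := ψ.2
      have hint := isIntegral_average ρ D g hcomm
      have hd : p ^ b ∣ n := by
        have := hmin ψ (B.toFinite.mem_toFinset.mp hψ)
        rw [← hρ, (charDegree_eq ρ).1] at this
        exact (pow_dvd_pow p this).trans (Nat.ordProj_dvd n p)
      obtain ⟨k, hk⟩ := hd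
      refine ⟨(k : AlgInt) * ⟨_, hint.map (starRingEnd ℂ).toIntAlgHom⟩, ?_⟩
      have hk' : (n : ℂ) = (p : ℂ) ^ b * (k : ℂ) := by exact_mod_cast congrArg (Nat.cast : ℕ → ℂ) hk
      rw [← Finset.mul_sum, ← hρ, (charDegree_eq ρ).2, hk']
      have hD0 : (Fintype.card ↥D : ℂ) ≠ 0 := Nat.cast_ne_zero.mpr Fintype.card_ne_zero
      push_cast
      simp only [RingHom.toIntAlgHom_apply, map_mul, map_inv₀, map_natCast, map_sum]
      field_simp
    choose! c hc using hterm
    refine ⟨∑ ψ ∈ B.toFinite.toFinset, c ψ, ?_⟩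
    rw [← hone]
    simp only [hFsum]
    rw [Finset.sum_comm, AddSubmonoidClass.coe_finsetSum, Finset.mul_sum]
    exact sum_congr rfl hc
  obtain ⟨c, hc⟩ := hkey
  -- arithmetic of `|G| = index * |C|`
  set a := C.index.factorization p with ha
  obtain ⟨i', hi'⟩ : ∃ i', C.index = p ^ a * i' ∧ ¬ p ∣ i' :=
    ⟨_, (Nat.ordProj_mul_ordCompl_eq_self _ p).symm, Nat.not_dvd_ordCompl hp C.index_ne_zero_of_finite⟩
  obtain ⟨c', hc'⟩ : ∃ c', Nat.card ↥C = p ^ (Nat.card ↥C).factorization p * c' ∧ ¬ p ∣ c' :=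
    ⟨_, (Nat.ordProj_mul_ordCompl_eq_self _ p).symm, Nat.not_dvd_ordCompl hp Nat.card_pos.ne'⟩
  have hp0 : (p : ℂ) ≠ 0 := Nat.cast_ne_zero.mpr hp.ne_zero
  have hba : b ≤ a := by
    by_contra hab
    push Not at hab
    apply hg.2.1
    refine ⟨(p : AlgInt) ^ (b - a) * c, ((i' * c' : ℕ) : AlgInt),
      M.mul_mem_right _ (Ideal.pow_mem_of_mem M hM.2.2 _ (by omega)),
      natCast_notMem hM (fun h => (hp.dvd_mul.mp h).elim hi'.2 hc'.2), ?_⟩
    have hG : (Nat.card G : ℂ) = (p : ℂ) ^ a * i' * ((Fintype.card ↥D : ℂ) * c') := by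
      rw [← C.index_mul_card, hi'.1, hc'.1, Fintype.card_eq_nat_card, hDcard]
      push_cast; ring
    have hblock : blockCoeff B g = (Nat.card G : ℂ)⁻¹ * F g := rfl
    rw [hblock, hc, hG]
    have hD0 : (Fintype.card ↥D : ℂ) ≠ 0 := Nat.cast_ne_zero.mpr Fintype.card_ne_zero
    have hi0 : (i' : ℂ) ≠ 0 := Nat.cast_ne_zero.mpr (by rintro rfl; exact hi'.2 (dvd_zero p))
    have hc0 : (c' : ℂ) ≠ 0 := Nat.cast_ne_zero.mpr (by rintro rfl; exact hc'.2 (dvd_zero p))
    push_cast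
    have hsplit : (p : ℂ) ^ b = (p : ℂ) ^ a * (p : ℂ) ^ (b - a) := by
      rw [← pow_add]; congr 1; omega
    rw [hsplit]
    field_simp
  rintro ⟨x, hx⟩
  apply hg.2.2 χ hχ
  have hn : charDegree (χ : G → ℂ) = nχ := by rw [← hρχ, (charDegree_eq ρχ).1]
  have hn0 : nχ ≠ 0 := by
    intro h
    have h' := hg.2.2 χ hχ
    apply h'
    refine ⟨0, 1, M.zero_mem, fun h => hM.2.1.ne_top ((Ideal.eq_top_iff_one M).mpr h), ?_⟩
    simp [centralChar, ← hρχ, (charDegree_eq ρχ).2, h]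
  obtain ⟨n', hn'⟩ : ∃ n', nχ = p ^ b * n' ∧ ¬ p ∣ n' := by
    refine ⟨_, ?_, Nat.not_dvd_ordCompl hp hn0⟩
    rw [hb, hn]; exact (Nat.ordProj_mul_ordCompl_eq_self _ p).symm
  refine ⟨(p : AlgInt) ^ (a - b + 1) * ((i' : AlgInt) * x), (n' : AlgInt),
    M.mul_mem_right _ (Ideal.pow_mem_of_mem M hM.2.2 _ (by omega)), natCast_notMem hM hn'.2, ?_⟩
  rw [centralChar, ← hC, hi'.1, ← hx]
  have hχ1 : (χ : G → ℂ) 1 = (p : ℂ) ^ b * n' := by
    rw [← hρχ, (charDegree_eq ρχ).2, hn'.1]; push_cast; ring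
  rw [hχ1]
  have hn'0 : (n' : ℂ) ≠ 0 := Nat.cast_ne_zero.mpr (by rintro rfl; exact hn'.2 (dvd_zero p))
  push_cast
  have hsplit : (p : ℂ) ^ a = (p : ℂ) ^ b * (p : ℂ) ^ (a - b) := by
    rw [← pow_add]; congr 1; omega
  rw [hsplit, pow_succ]
  field_simp

/-- A height zero character of the block lying over `lam` forces `lam` to extend to a defect
group, granted vanishing of the block idempotent at `p`-singular elements. -/
theorem exists_extension_of_height_zero (hM : IsPModular p M) (B : Set (IrrCharacter G))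
    (hvan : ∀ y : G, p ∣ orderOf y → ∑ᶠ ψ ∈ B, (ψ : G → ℂ) 1 * conj ((ψ : G → ℂ) y) = 0)
    (D : Subgroup G) (hD : IsDefectGroup p M B D) (Z : Subgroup G) (hZD : Z ≤ D)
    (lam : ↥Z →* ℂˣ) (χ : IrrCharacter G) (hχ : χ ∈ B)
    (hover : ∀ z : ↥Z, (χ : G → ℂ) z = (χ : G → ℂ) 1 * (lam z : ℂ))
    (h0 : blockHeight p B (χ : G → ℂ) = 0) :
    ∃ μ : ↥D →* ℂˣ, ∀ z : ↥Z, μ ⟨(z : G), hZD z.2⟩ = lam z := by
  obtain ⟨g, hg, S, rfl⟩ := hD
  have hnd := not_dvd_value_of_height_zero hM B hvan g hg S χ hχ h0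
  obtain ⟨n, ρ, -, hρ⟩ := χ.2
  refine exists_extension ρ p hM.1 Z _ hZD (S.2.map _) lam ?_ g ?_ (hρ ▸ hnd)
  · intro z
    rw [hρ, hover z, ← hρ, (charDegree_eq ρ).2]
  · rintro _ ⟨d, _, rfl⟩
    exact Subgroup.mem_centralizer_singleton_iff.mp d.2

end CfsgLib.HeightExt
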