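import Cfsg.Prelude.Def_Blocks
import Mathlib.LinearAlgebra.Determinant
import Mathlib.LinearAlgebra.Trace
import Mathlib.RingTheory.RootsOfUnity.Complex
import Mathlib.GroupTheory.OrderOfElement
import Mathlib.Algebra.Algebra.Equiv
import Mathlib.GroupTheory.PGroup

/-!
# Extending a linear character of a central subgroup through an eigenspace determinant

If a representation has `Z` acting by the scalars `lam` and some element `y` commuting with the
`p`-subgroup `D ≥ Z` has trace not divisible by `p` among algebraic integers, then some eigenspace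
of `y` has dimension prime to `p`, and the determinant of `D` on it yields an extension of `lam`.
-/

namespace CfsgLib.HeightExt

open Cfsg Finset

variable {G : Type*} [Group G] {n : ℕ} (ρ : Representation ℂ G (Fin n → ℂ))

/-- A representation in which a finite subgroup `Z` has trace `n * lam z` acts on `Z` by scalars. -/
theorem scalar_of_character [Finite G] (Z : Subgroup G) (lam : ↥Z →* ℂˣ)
    (h : ∀ z : ↥Z, ρ.character z = (n : ℂ) * (lam z : ℂ)) (z : ↥Z) :
    ρ (z : G) = (lam z : ℂ) • 1 := by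
  classical
  have _ : Fintype ↥Z := Fintype.ofFinite _
  set P : Module.End ℂ (Fin n → ℂ) :=
    (Fintype.card ↥Z : ℂ)⁻¹ • ∑ w : ↥Z, ((((lam w)⁻¹ : ℂˣ) : ℂ) • ρ (w : G)) with hP
  have hZ : (Fintype.card ↥Z : ℂ) ≠ 0 := Nat.cast_ne_zero.mpr Fintype.card_ne_zero
  have hmul : ∀ u : ↥Z, ρ (u : G) * P = (lam u : ℂ) • P := by
    intro u
    simp only [hP, mul_smul_comm, Finset.mul_sum, Finset.smul_sum, smul_smul]
    refine Fintype.sum_equiv (Equiv.mulLeft u) _ _ (fun w => ?_)
    simp only [Equiv.coe_mulLeft, ← map_mul, Subgroup.coe_mul]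
    congr 1
    rw [map_mul lam, mul_inv, Units.val_mul, mul_left_comm (lam u : ℂ), ← mul_assoc (lam u : ℂ), Units.mul_inv, one_mul]
  have hidem : P * P = P := by
    conv_lhs => arg 1; rw [hP]
    rw [smul_mul_assoc, sum_mul]
    simp only [smul_mul_assoc, hmul, smul_smul, Units.inv_mul, one_smul, sum_const, card_univ,
      ← Nat.cast_smul_eq_nsmul ℂ, inv_mul_cancel₀ hZ]
  have htr : LinearMap.trace ℂ (Fin n → ℂ) P = n := by
    rw [hP, map_smul, map_sum]
    have : ∀ w : ↥Z, LinearMap.trace ℂ (Fin n → ℂ) (((lam w)⁻¹ : ℂˣ).val • ρ (w : G)) = (n : ℂ) := by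
      intro w
      rw [map_smul, show LinearMap.trace ℂ _ (ρ (w : G)) = ρ.character w from rfl, h w, smul_eq_mul,
        mul_left_comm, Units.inv_mul, mul_one]
    rw [sum_congr rfl (fun w _ => this w), sum_const, card_univ, nsmul_eq_mul, smul_eq_mul,
      ← mul_assoc, inv_mul_cancel₀ hZ, one_mul]
  have hproj : LinearMap.IsProj (LinearMap.range P) P :=
    ⟨fun x => LinearMap.mem_range_self P x, by
      rintro _ ⟨x, rfl⟩
      exact congrArg (fun f : Module.End ℂ (Fin n → ℂ) => f x) hidem⟩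
  have hrk := hproj.trace
  rw [htr] at hrk
  have htop : LinearMap.range P = ⊤ := Submodule.eq_top_of_finrank_eq (by
    rw [Module.finrank_fin_fun]; exact_mod_cast hrk.symm)
  have hone : P = 1 := by
    refine LinearMap.ext (fun x => ?_)
    exact hproj.map_id x (htop ▸ Submodule.mem_top)
  have := hmul z
  rwa [hone, mul_one] at this

/-- A linear map of finite order is the weighted sum of its spectral projections. -/
theorem exists_projections {m : ℕ} (hm : 0 < m) (T : Module.End ℂ (Fin n → ℂ)) (hT : T ^ m = 1)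
    (ω : ℂ) (hω : IsPrimitiveRoot ω m) :
    (∀ j : ℕ, ((m : ℂ)⁻¹ • ∑ i ∈ range m, (ω ^ (j * i))⁻¹ • T ^ i) *
        ((m : ℂ)⁻¹ • ∑ i ∈ range m, (ω ^ (j * i))⁻¹ • T ^ i) =
      (m : ℂ)⁻¹ • ∑ i ∈ range m, (ω ^ (j * i))⁻¹ • T ^ i) ∧
    T = ∑ j ∈ range m, ω ^ j • ((m : ℂ)⁻¹ • ∑ i ∈ range m, (ω ^ (j * i))⁻¹ • T ^ i) := by
  have hm0 : (m : ℂ) ≠ 0 := Nat.cast_ne_zero.mpr hm.ne'
  have hω0 : ω ≠ 0 := hω.ne_zero hm.ne'
  constructor
  · intro j
    set S := ∑ i ∈ range m, (ω ^ (j * i))⁻¹ • T ^ i with hS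
    have hTS : T * S = ω ^ j • S := by
      have h1 := Finset.sum_range_succ' (fun i => (ω ^ (j * i))⁻¹ • T ^ i) m
      have h2 := Finset.sum_range_succ (fun i => (ω ^ (j * i))⁻¹ • T ^ i) m
      have hend : (ω ^ (j * m))⁻¹ • T ^ m = (ω ^ (j * 0))⁻¹ • T ^ 0 := by
        rw [mul_comm j m, pow_mul, hω.pow_eq_one, one_pow, hT]; simp
      rw [h2, hend, add_left_inj] at h1
      conv_rhs => rw [hS, h1, smul_sum]
      rw [hS, mul_sum]
      refine sum_congr rfl (fun i _ => ?_)
      rw [smul_smul, mul_smul_comm, ← pow_succ']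
      congr 1
      rw [mul_add, mul_one, pow_add, mul_inv, mul_left_comm, mul_inv_cancel₀ (pow_ne_zero _ hω0),
        mul_one]
    have hpow : ∀ i, T ^ i * S = ω ^ (j * i) • S := by
      intro i
      induction i with
      | zero => simp
      | succ i ih => rw [pow_succ', mul_assoc, ih, mul_smul_comm, hTS, smul_smul, ← pow_add, mul_add, mul_one]
    have hSS : S * S = (m : ℂ) • S := by
      conv_lhs => arg 1; rw [hS]
      simp [sum_mul, smul_mul_assoc, hpow, smul_smul, hω0, ← Nat.cast_smul_eq_nsmul ℂ]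
    rw [smul_mul_assoc, mul_smul_comm, hSS, smul_smul (m : ℂ)⁻¹ (m : ℂ), inv_mul_cancel₀ hm0, one_smul]
  · simp only [smul_sum, smul_smul]
    rw [Finset.sum_comm]
    simp only [← sum_smul]
    rcases Nat.lt_or_ge 1 m with h1 | h1
    · rw [Finset.sum_eq_single 1]
      · rw [Finset.sum_congr rfl (g := fun _ => (m : ℂ)⁻¹) (fun j _ => ?_), sum_const, card_range,
          nsmul_eq_mul, mul_inv_cancel₀ hm0, one_smul, pow_one]
        rw [mul_one, mul_left_comm, mul_inv_cancel₀ (pow_ne_zero _ hω0), mul_one]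
      · intro i hi hi1
        have hi' : i < m := Finset.mem_range.mp hi
        suffices ∑ j ∈ range m, ω ^ j * ((m : ℂ)⁻¹ * (ω ^ (j * i))⁻¹) = 0 by rw [this, zero_smul]
        have hr : ω * (ω ^ i)⁻¹ ≠ 1 := by
          intro h
          have : ω ^ 1 = ω ^ i := by rw [pow_one]; exact eq_of_mul_inv_eq_one h
          exact hi1 (hω.pow_inj h1 hi' this).symm
        have hgeom := geom_sum_eq hr m
        have hpm : (ω * (ω ^ i)⁻¹) ^ m = 1 := by
          rw [mul_pow, inv_pow, ← pow_mul, mul_comm i m, pow_mul, hω.pow_eq_one, one_pow, inv_one, one_mul]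
        rw [hpm, sub_self, zero_div] at hgeom
        rw [← mul_zero (m : ℂ)⁻¹, ← hgeom, mul_sum]
        refine sum_congr rfl (fun j _ => ?_)
        rw [mul_pow, inv_pow, ← pow_mul, mul_comm i j]; ring
      · intro h; exact absurd (Finset.mem_range.mpr h1) h
    · obtain rfl : m = 1 := by omega
      simp [← hT]

/-- An element commuting with `D` whose trace is not `p` times an algebraic integer gives an
extension to `D` of the scalar action of `Z ≤ D`. -/
theorem exists_extension [Finite G] (p : ℕ) (hp : p.Prime) (Z D : Subgroup G) (hZD : Z ≤ D)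
    (hD : IsPGroup p D) (lam : ↥Z →* ℂˣ)
    (hover : ∀ z : ↥Z, ρ.character z = (n : ℂ) * (lam z : ℂ)) (y : G)
    (hy : ∀ d ∈ D, d * y = y * d)
    (hndvd : ¬ ∃ a : AlgInt, (p : ℂ) * (a : ℂ) = ρ.character y) :
    ∃ μ : ↥D →* ℂˣ, ∀ z : ↥Z, μ ⟨(z : G), hZD z.2⟩ = lam z := by
  classical
  have hscal := scalar_of_character ρ Z lam hover
  have hm : 0 < orderOf y := orderOf_pos y
  have hω := Complex.isPrimitiveRoot_exp (orderOf y) hm.ne'
  set m := orderOf y
  set ω := Complex.exp (2 * Real.pi * Complex.I / m)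
  set T : Module.End ℂ (Fin n → ℂ) := ρ y with hTdef
  have hT : T ^ m = 1 := by rw [hTdef, ← map_pow, pow_orderOf_eq_one, map_one]
  obtain ⟨hidem, hdec⟩ := exists_projections hm T hT ω hω
  set P : ℕ → Module.End ℂ (Fin n → ℂ) := fun j => (m : ℂ)⁻¹ • ∑ i ∈ range m, (ω ^ (j * i))⁻¹ • T ^ i
    with hPdef
  have hproj : ∀ j, LinearMap.IsProj (LinearMap.range (P j)) (P j) := fun j =>
    ⟨fun x => LinearMap.mem_range_self _ x, by
      rintro _ ⟨x, rfl⟩
      exact congrArg (fun f : Module.End ℂ (Fin n → ℂ) => f x) (hidem j)⟩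
  have hex : ∃ j, ¬ p ∣ Module.finrank ℂ (LinearMap.range (P j)) := by
    by_contra hno
    push Not at hno
    apply hndvd
    choose k hk using hno
    have hint : IsIntegral ℤ ω := ⟨Polynomial.X ^ m - Polynomial.C 1,
      Polynomial.monic_X_pow_sub_C 1 hm.ne', by simp [hω.pow_eq_one]⟩
    refine ⟨∑ j ∈ range m, (k j : AlgInt) * (⟨ω, hint⟩ : AlgInt) ^ j, ?_⟩
    have htr : ρ.character y = LinearMap.trace ℂ _ (∑ j ∈ range m, ω ^ j • P j) :=
      congrArg (LinearMap.trace ℂ (Fin n → ℂ)) hdec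
    rw [htr, map_sum, AddSubmonoidClass.coe_finsetSum, mul_sum]
    refine sum_congr rfl (fun j _ => ?_)
    rw [map_smul, (hproj j).trace, hk j, smul_eq_mul]
    push_cast
    ring
  obtain ⟨j, hj⟩ := hex
  set W := LinearMap.range (P j) with hW
  have hinv : ∀ d : ↥D, ∀ w ∈ W, ρ (d : G) w ∈ W := by
    rintro d _ ⟨x, rfl⟩
    refine ⟨ρ (d : G) x, ?_⟩
    have hc : Commute (ρ (d : G)) T := (show Commute (d : G) y from hy d d.2).map ρ
    have : Commute (ρ (d : G)) (P j) :=
      (Commute.sum_right (range m) _ _ (fun i _ => ((hc.pow_right i).smul_right _))).smul_right _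
    exact (congrArg (fun f : Module.End ℂ (Fin n → ℂ) => f x) this.eq).symm
  let R : ↥D →* Module.End ℂ W :=
    { toFun := fun d => (ρ (d : G)).restrict (hinv d)
      map_one' := by ext w; simp
      map_mul' := fun a b => by ext w; simp [LinearMap.restrict_apply] }
  let μ₀ : ↥D →* ℂˣ := ((LinearMap.det : Module.End ℂ W →* ℂ).comp R).toHomUnits
  have hμ₀ : ∀ z : ↥Z, μ₀ ⟨(z : G), hZD z.2⟩ = lam z ^ Module.finrank ℂ W := by
    intro z
    apply Units.ext
    change LinearMap.det ((ρ (z : G)).restrict (hinv ⟨(z : G), hZD z.2⟩)) = _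
    have : (ρ (z : G)).restrict (hinv ⟨(z : G), hZD z.2⟩) = (lam z : ℂ) • LinearMap.id := by
      ext w; simp [hscal z]
    rw [this, LinearMap.det_smul, LinearMap.det_id, mul_one, Units.val_pow_eq_pow_val]
  have hk : (Module.finrank ℂ W).Coprime (Nat.card ↥D) := by
    have : Fact p.Prime := ⟨hp⟩
    obtain ⟨e, he⟩ := IsPGroup.iff_card.mp hD
    rw [he]
    exact Nat.Coprime.pow_right e (Nat.coprime_comm.mp ((hp.coprime_iff_not_dvd).mpr hj))
  rcases Nat.lt_or_ge 1 (Nat.card ↥D) with hD1 | hD1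
  swap
  · refine ⟨1, fun z => ?_⟩
    have : Subsingleton ↥D := (Nat.card_eq_one_iff_unique.mp (le_antisymm hD1 Nat.card_pos)).1
    have hz : z = 1 := Subtype.ext ((congrArg Subtype.val (Subsingleton.elim (⟨(z : G), hZD z.2⟩ : ↥D) 1) :) : (z : G) = 1)
    subst hz; simp
  obtain ⟨l, -, hl⟩ := Nat.exists_mul_mod_eq_one_of_coprime hk hD1
  refine ⟨μ₀ ^ l, fun z => ?_⟩
  rw [MonoidHom.pow_apply, hμ₀, ← pow_mul]
  have hone : lam z ^ Nat.card ↥D = 1 := by
    rw [← map_pow]
    have hpd : (⟨(z : G), hZD z.2⟩ : ↥D) ^ Nat.card ↥D = 1 := pow_card_eq_one'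
    have : z ^ Nat.card ↥D = 1 := Subtype.ext ((congrArg Subtype.val hpd :) : (z : G) ^ Nat.card ↥D = 1)
    rw [this, map_one]
  rw [pow_eq_pow_mod _ hone, hl, pow_one]

end CfsgLib.HeightExt
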